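import Mathlib.RingTheory.Polynomial.Resultant.Basic
import Mathlib.LinearAlgebra.Matrix.Determinant.Basic
import Mathlib.FieldTheory.Finite.Basic
import Mathlib.SetTheory.Cardinal.Finite
import Mathlib.Tactic.LinearCombination

/-! # Point count of the complement of the resultant hypersurface for degrees `(2, n)` -/

set_option autoImplicit false

universe u

open Polynomial

namespace Groth.Agent.H23ResHyp

variable {F : Type u} [Field F]

/-- The polynomial with coefficient vector `v`. -/
noncomputable def poly {m : ℕ} (v : Fin m → F) : F[X] := ∑ i : Fin m, C (v i) * X ^ (i : ℕ)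

theorem coeff_poly {m : ℕ} (v : Fin m → F) (i : Fin m) : (poly v).coeff i = v i := by
  rw [poly, finset_sum_coeff, Finset.sum_eq_single i]
  · simp
  · intro j _ hj
    rw [coeff_C_mul_X_pow, if_neg fun h => hj (Fin.ext h.symm)]
  · simp

theorem coeff_poly_of_le {m : ℕ} (v : Fin m → F) {i : ℕ} (h : m ≤ i) : (poly v).coeff i = 0 := by
  rw [poly, finset_sum_coeff]
  exact Finset.sum_eq_zero fun j _ => by rw [coeff_C_mul_X_pow, if_neg (by omega)]

theorem natDegree_poly_le {m : ℕ} (v : Fin (m + 1) → F) : (poly v).natDegree ≤ m :=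
  natDegree_le_iff_coeff_eq_zero.mpr fun i hi => coeff_poly_of_le v (by omega)

theorem poly_injective {m : ℕ} : Function.Injective (poly : (Fin m → F) → F[X]) := fun v w h => by
  funext i
  rw [← coeff_poly v i, h, coeff_poly]

theorem exists_poly {m : ℕ} {g : F[X]} (hg : g.natDegree ≤ m) : ∃ v : Fin (m + 1) → F, poly v = g := by
  refine ⟨fun i => g.coeff i, Polynomial.ext fun i => ?_⟩
  by_cases hi : i < m + 1
  · exact coeff_poly (fun j : Fin (m + 1) => g.coeff j) ⟨i, hi⟩
  · rw [coeff_poly_of_le _ (by omega), coeff_eq_zero_of_natDegree_lt (by omega)]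

theorem poly_cons {m : ℕ} (a : F) (v : Fin m → F) : poly (Fin.cons a v) = C a + X * poly v := by
  simp only [poly, Fin.sum_univ_succ, Fin.cons_zero, Fin.cons_succ, Fin.val_succ, Fin.val_zero, pow_zero, mul_one,
    Finset.mul_sum]
  congr 1
  exact Finset.sum_congr rfl fun i _ => by ring

theorem poly_three (f : Fin 3 → F) : poly f = C (f 0) + C (f 1) * X + C (f 2) * X ^ 2 := by
  simp [poly, Fin.sum_univ_three]

/-- `Res_{2,1}` of a quadratic and a linear polynomial. -/
theorem resultant_two_one (f : Fin 3 → F) (u d : F) :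
    resultant (poly f) (C u + C d * X) 2 1 = f 2 * u ^ 2 - f 1 * u * d + f 0 * d ^ 2 := by
  have h0 : (poly f).coeff 0 = f 0 := coeff_poly f 0
  have h1 : (poly f).coeff 1 = f 1 := coeff_poly f 1
  have h2 : (poly f).coeff 2 = f 2 := coeff_poly f 2
  rw [resultant, Matrix.det_fin_three]
  simp [sylvester, Fin.addCases, h0, h1, h2, coeff_C, coeff_X]
  ring

/-- The quadratic form whose nonvanishing is `Res ≠ 0`. -/
def Phi (a : F) (z : F × F × F × F) : F := a * z.2.2.1 ^ 2 - z.2.1 * z.2.2.1 * z.2.2.2 + z.1 * z.2.2.2 ^ 2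

theorem resultant_reduce (f : Fin 3 → F) (m : ℕ) (h : Fin (m + 1) → F) (u d : F) :
    resultant (poly f) (C u + C d * X + poly f * poly h) 2 (m + 2) =
      f 2 ^ (m + 1) * Phi (f 2) (f 0, f 1, u, d) := by
  rw [resultant_add_mul_right (poly f) (C u + C d * X) (poly h) 2 (m + 2)
    (by have := natDegree_poly_le h; omega) (natDegree_poly_le f)]
  rw [show m + 2 = 1 + (m + 1) by omega, resultant_add_right_deg _ _ _ _ _ (by
    refine natDegree_add_le_of_degree_le ?_ ?_
    · simp
    · exact natDegree_C_mul_le d X |>.trans natDegree_X_le)]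
  rw [resultant_two_one]
  simp [Phi, show (poly f).coeff 2 = f 2 from coeff_poly f 2]

variable [Fintype F]

theorem card_ne_zero : Nat.card {a : F // a ≠ 0} = Fintype.card F - 1 := by
  classical
  rw [Nat.card_eq_fintype_card, Fintype.card_subtype_compl, Fintype.card_subtype_eq]

theorem card_Phi_ne_zero {a : F} (ha : a ≠ 0) :
    Nat.card {z : F × F × F × F // Phi a z ≠ 0} = Fintype.card F ^ 4 - Fintype.card F ^ 3 := by
  classical
  let φ : F × F × F → {z : F × F × F × F // Phi a z = 0} := fun t =>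
    if h : t.2.2 = 0 then ⟨(t.2.1, t.1, 0, 0), by simp [Phi]⟩
    else ⟨((t.1 * t.2.1 * t.2.2 - a * t.2.1 ^ 2) / t.2.2 ^ 2, t.1, t.2.1, t.2.2), by
      simp only [Phi]; field_simp; ring⟩
  have hφ : Function.Bijective φ := by
    constructor
    · rintro ⟨x, y, d⟩ ⟨x', y', d'⟩ h
      simp only [φ] at h
      split_ifs at h with h1 h2 h2 <;> simp [Prod.ext_iff] at h ⊢
      · simp only [h1, h2]; tauto
      · exact absurd h.2.2.2.symm h2
      · exact absurd h.2.2.2 h1
      · tauto
    · rintro ⟨⟨z0, z1, u, d⟩, hz⟩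
      by_cases hd : d = 0
      · subst hd
        have hu : u = 0 := by simpa [Phi, ha] using hz
        subst hu
        exact ⟨(z1, z0, 0), by simp [φ]⟩
      · refine ⟨(z1, u, d), ?_⟩
        simp only [φ, hd, ↓reduceDIte, Subtype.mk.injEq, Prod.mk.injEq, and_true]
        simp only [Phi] at hz
        field_simp
        linear_combination -hz
  rw [Nat.card_eq_fintype_card, Fintype.card_subtype_compl, ← Fintype.card_of_bijective hφ]
  simp only [Fintype.card_prod]
  ring_nf

theorem card_top_ne_zero (m : ℕ) :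
    Nat.card {p : (Fin 3 → F) × (Fin (m + 3) → F) // resultant (poly p.1) (poly p.2) 2 (m + 2) ≠ 0 ∧ p.1 2 ≠ 0} =
      (Fintype.card F - 1) * (Fintype.card F ^ (m + 1) * (Fintype.card F ^ 4 - Fintype.card F ^ 3)) := by
  classical
  have hex : ∀ (f : Fin 3 → F) (h : Fin (m + 1) → F) (u d : F), ∃ g : Fin (m + 3) → F,
      poly g = C u + C d * X + poly f * poly h := fun f h u d => by
    refine exists_poly (le_trans (natDegree_add_le _ _) (max_le ?_ ?_))
    · refine le_trans (natDegree_add_le _ _) (max_le (by simp) ?_)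
      exact (natDegree_C_mul_le d X).trans (natDegree_X_le.trans (by omega))
    · refine natDegree_mul_le.trans ?_
      have := natDegree_poly_le f
      have := natDegree_poly_le h
      omega
  choose G hG using hex
  let ψ : (Σ a : {a : F // a ≠ 0}, (Fin (m + 1) → F) × {z : F × F × F × F // Phi a.1 z ≠ 0}) →
      {p : (Fin 3 → F) × (Fin (m + 3) → F) // resultant (poly p.1) (poly p.2) 2 (m + 2) ≠ 0 ∧ p.1 2 ≠ 0} :=
    fun t => ⟨(![t.2.2.1.1, t.2.2.1.2.1, t.1.1],
      G ![t.2.2.1.1, t.2.2.1.2.1, t.1.1] t.2.1 t.2.2.1.2.2.1 t.2.2.1.2.2.2), by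
        refine ⟨?_, t.1.2⟩
        rw [hG, resultant_reduce]
        exact mul_ne_zero (pow_ne_zero _ t.1.2) t.2.2.2⟩
  have hψ : Function.Bijective ψ := by
    constructor
    · rintro ⟨⟨a, ha⟩, h, ⟨⟨z0, z1, u, d⟩, hz⟩⟩ ⟨⟨a', ha'⟩, h', ⟨⟨z0', z1', u', d'⟩, hz'⟩⟩ he
      simp only [ψ, Subtype.mk.injEq, Prod.mk.injEq] at he
      obtain ⟨hf, hg⟩ := he
      obtain rfl : z0 = z0' := congrFun hf 0
      obtain rfl : z1 = z1' := congrFun hf 1
      obtain rfl : a = a' := congrFun hf 2
      have he' := congrArg poly hg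
      rw [hG, hG] at he'
      set f : Fin 3 → F := ![z0, z1, a]
      have hdeg : (poly f).degree = 2 := by
        refine degree_eq_of_le_of_coeff_ne_zero ?_ ?_
        · exact degree_le_of_natDegree_le (natDegree_poly_le f)
        · show (poly f).coeff ((2 : Fin 3) : ℕ) ≠ 0
          rw [coeff_poly]; exact ha
      have hf0 : poly f ≠ 0 := fun h0 => by simp [h0] at hdeg
      have key : C (u - u') + C (d - d') * X = poly f * (poly h' - poly h) := by
        simp only [map_sub]; linear_combination he'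
      have hzero : poly h' - poly h = 0 := by
        by_contra hne
        have h1 := congrArg Polynomial.degree key
        rw [degree_mul, hdeg] at h1
        have h2 : (C (u - u') + C (d - d') * X).degree < 2 := by
          rw [add_comm]
          exact lt_of_le_of_lt degree_linear_le (by norm_num)
        rw [h1] at h2
        rw [degree_eq_natDegree hne] at h2
        norm_cast at h2
        omega
      rw [hzero, mul_zero] at key
      have k0 := congrArg (fun p => Polynomial.coeff p 0) key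
      have k1 := congrArg (fun p => Polynomial.coeff p 1) key
      simp [coeff_C, sub_eq_zero] at k0 k1
      obtain rfl := k0
      obtain rfl := k1
      obtain rfl := poly_injective (sub_eq_zero.mp hzero).symm
      rfl
    · rintro ⟨⟨f, g⟩, hres, hf2⟩
      have hdeg : (poly f).natDegree = 2 := by
        refine le_antisymm (natDegree_poly_le f) (le_natDegree_of_ne_zero ?_)
        show (poly f).coeff ((2 : Fin 3) : ℕ) ≠ 0
        rwa [coeff_poly]
      have hf0 : poly f ≠ 0 := fun h => by simp [h] at hdeg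
      set Q := poly g / poly f
      set R := poly g % poly f
      have hQR : poly f * Q + R = poly g := EuclideanDomain.div_add_mod _ _
      have hR : R.natDegree ≤ 1 := by
        have : R.natDegree < (poly f).natDegree := natDegree_mod_lt _ (by omega)
        omega
      have hQ : Q.natDegree ≤ m := by
        by_cases hQ0 : Q = 0
        · simp [hQ0]
        have h1 : (poly f * Q).natDegree ≤ m + 2 := by
          rw [show poly f * Q = poly g - R by linear_combination hQR]
          exact (natDegree_sub_le _ _).trans (max_le (natDegree_poly_le g) (hR.trans (by omega)))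
        rw [natDegree_mul hf0 hQ0, hdeg] at h1
        omega
      obtain ⟨h, hh⟩ := exists_poly hQ
      obtain ⟨u, d, hud⟩ : ∃ u d, R = C u + C d * X :=
        ⟨R.coeff 0, R.coeff 1, by conv_lhs => rw [eq_X_add_C_of_natDegree_le_one hR]; rw [add_comm]⟩
      have hg : poly g = C u + C d * X + poly f * poly h := by rw [hh, ← hud]; linear_combination -hQR
      have hz : Phi (f 2) (f 0, f 1, u, d) ≠ 0 := by
        intro h0
        apply hres
        show resultant (poly f) (poly g) 2 (m + 2) = 0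
        rw [hg, resultant_reduce, h0, mul_zero]
      refine ⟨⟨⟨f 2, hf2⟩, h, ⟨(f 0, f 1, u, d), hz⟩⟩, ?_⟩
      have hff : ![f 0, f 1, f 2] = f := by funext i; fin_cases i <;> rfl
      refine Subtype.ext (Prod.ext hff ?_)
      show G ![f 0, f 1, f 2] h u d = g
      refine poly_injective ?_
      rw [hG, hff, hg]
  rw [← Nat.card_eq_of_bijective ψ hψ, Nat.card_sigma]
  simp only [Nat.card_prod, Nat.card_fun, Nat.card_eq_fintype_card (α := F), Nat.card_fin]
  rw [Finset.sum_congr rfl fun a _ => by rw [card_Phi_ne_zero a.2], Finset.sum_const, smul_eq_mul]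
  rw [← card_ne_zero (F := F), Finset.card_univ, Nat.card_eq_fintype_card]

/-- `Res_{2,n}` when the leading coefficient of the quadratic vanishes. -/
theorem resultant_low {m : ℕ} (f : Fin 3 → F) (g : Fin (m + 3) → F) (h2 : f 2 = 0) :
    resultant (poly f) (poly g) 2 (m + 2) ≠ 0 ↔
      g (Fin.last (m + 2)) ≠ 0 ∧ (f 1 = 0 → f 0 ≠ 0) ∧ (f 1 ≠ 0 → (poly g).eval (-(f 0 / f 1)) ≠ 0) := by
  have hf : poly f = C (f 0) + C (f 1) * X := by rw [poly_three, h2]; simp
  have hd : (poly f).natDegree ≤ 1 := by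
    rw [hf]
    exact natDegree_add_le_of_degree_le (by simp) ((natDegree_C_mul_le _ X).trans natDegree_X_le)
  have hn : (poly g).coeff (m + 2) = g (Fin.last (m + 2)) := coeff_poly g (Fin.last (m + 2))
  have key := resultant_add_left_deg (poly f) (poly g) 1 (m + 2) 1 hd
  rw [show (1 : ℕ) + 1 = 2 from rfl] at key
  rw [key]
  have hs : ((-1 : F)) ^ ((m + 2) * 1) ≠ 0 := pow_ne_zero _ (neg_ne_zero.mpr one_ne_zero)
  rw [hn, pow_one, mul_ne_zero_iff, mul_ne_zero_iff, and_iff_right hs]
  refine and_congr_right fun hg => ?_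
  by_cases h1 : f 1 = 0
  · rw [hf, h1, map_zero, zero_mul, add_zero, resultant_C_left, hn]
    simp [hg]
  · have he : C (f 0) + C (f 1) * X = C (f 1) * (X - C (-(f 0 / f 1))) := by
      rw [mul_sub, ← C_mul, mul_neg, mul_div_cancel₀ _ h1, map_neg]; ring
    rw [hf, he, resultant_C_mul_left, resultant_X_sub_C_left _ _ _ (natDegree_poly_le g)]
    simp [h1]

theorem card_low_ne_zero (m : ℕ) :
    Nat.card {p : (Fin 3 → F) × (Fin (m + 3) → F) // resultant (poly p.1) (poly p.2) 2 (m + 2) ≠ 0 ∧ p.1 2 = 0} =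
      (Fintype.card F - 1) * Fintype.card F * ((Fintype.card F - 1) * (Fintype.card F - 1) * Fintype.card F ^ (m + 1))
      + (Fintype.card F - 1) * ((Fintype.card F - 1) * Fintype.card F ^ (m + 2)) := by
  classical
  let D := ({a : F // a ≠ 0} × F) × (({e : F // e ≠ 0} × {l : F // l ≠ 0}) × (Fin (m + 1) → F)) ⊕
      {a : F // a ≠ 0} × ({l : F // l ≠ 0} × (Fin (m + 2) → F))
  let mid : F → F → F → (Fin (m + 1) → F) → Fin (m + 3) → F := fun r e l v =>
    Fin.cons (e - r * (poly (Fin.snoc v l : Fin (m + 2) → F)).eval r) (Fin.snoc v l)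
  have hmid : ∀ r e l v, (poly (mid r e l v)).eval r = e := fun r e l v => by
    simp only [mid, poly_cons, eval_add, eval_mul, eval_C, eval_X, sub_add_cancel]
  have hmidl : ∀ r e l v, mid r e l v (Fin.last (m + 2)) = l := fun r e l v => by
    simp only [mid]
    rw [← Fin.succ_last, Fin.cons_succ, Fin.snoc_last]
  let χ : D → {p : (Fin 3 → F) × (Fin (m + 3) → F) // resultant (poly p.1) (poly p.2) 2 (m + 2) ≠ 0 ∧ p.1 2 = 0} :=
    Sum.elim
      (fun t => ⟨(![t.1.2, t.1.1.1, 0], mid (-(t.1.2 / t.1.1.1)) t.2.1.1.1 t.2.1.2.1 t.2.2), by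
        refine ⟨(resultant_low _ _ rfl).mpr ⟨?_, ?_⟩, rfl⟩
        · show mid (-(t.1.2 / t.1.1.1)) t.2.1.1.1 t.2.1.2.1 t.2.2 (Fin.last (m + 2)) ≠ 0
          rw [hmidl]; exact t.2.1.2.2
        · refine ⟨fun h => absurd h t.1.1.2, fun _ => ?_⟩
          show eval (-(t.1.2 / t.1.1.1)) (poly (mid (-(t.1.2 / t.1.1.1)) t.2.1.1.1 t.2.1.2.1 t.2.2)) ≠ 0
          rw [hmid]
          exact t.2.1.1.2⟩)
      (fun t => ⟨(![t.1.1, 0, 0], Fin.snoc t.2.2 t.2.1.1), by
        refine ⟨(resultant_low _ _ rfl).mpr ⟨?_, ?_⟩, rfl⟩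
        · show (Fin.snoc t.2.2 t.2.1.1 : Fin (m + 3) → F) (Fin.last (m + 2)) ≠ 0
          rw [Fin.snoc_last]; exact t.2.1.2
        · exact ⟨fun _ => t.1.2, fun h => absurd rfl h⟩⟩)
  have hχ : Function.Bijective χ := by
    constructor
    · rintro (⟨⟨⟨a, ha⟩, b⟩, ⟨⟨e, he⟩, ⟨l, hl⟩⟩, v⟩ | ⟨⟨a, ha⟩, ⟨l, hl⟩, v⟩)
        (⟨⟨⟨a', ha'⟩, b'⟩, ⟨⟨e', he'⟩, ⟨l', hl'⟩⟩, v'⟩ | ⟨⟨a', ha'⟩, ⟨l', hl'⟩, v'⟩) h <;>
        simp only [χ, Sum.elim_inl, Sum.elim_inr, Subtype.mk.injEq, Prod.mk.injEq] at h <;> obtain ⟨hf, hg⟩ := h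
      · obtain rfl : b = b' := congrFun hf 0
        obtain rfl : a = a' := congrFun hf 1
        have h1 : e = e' := by
          have := congrArg (fun g => (poly g).eval (-(b / a))) hg
          simpa [hmid] using this
        subst h1
        simp only [mid] at hg
        have h2 := (Fin.cons_inj.mp hg).2
        obtain ⟨rfl, rfl⟩ : v = v' ∧ l = l' :=
          ⟨by simpa using congrArg Fin.init h2, by simpa using congrFun h2 (Fin.last _)⟩
        rfl
      · exact absurd (congrFun hf 1) ha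
      · exact absurd (congrFun hf 1).symm ha'
      · obtain rfl : a = a' := congrFun hf 0
        obtain rfl : v = v' := by simpa using congrArg Fin.init hg
        obtain rfl : l = l' := by simpa using congrFun hg (Fin.last _)
        rfl
    · rintro ⟨⟨f, g⟩, hres, hf2⟩
      obtain ⟨hl, hrest⟩ := (resultant_low f g hf2).mp hres
      have hff : ∀ x y, f 0 = x → f 1 = y → ![x, y, 0] = f := fun x y hx hy => by
        funext i; fin_cases i
        · exact hx.symm
        · exact hy.symm
        · exact hf2.symm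
      by_cases h1 : f 1 = 0
      · replace hrest := hrest.1 h1
        refine ⟨.inr (⟨f 0, hrest⟩, ⟨_, hl⟩, Fin.init g), Subtype.ext (Prod.ext (hff _ _ rfl h1) ?_)⟩
        exact Fin.snoc_init_self g
      · replace hrest := hrest.2 h1
        refine ⟨.inl ((⟨f 1, h1⟩, f 0), (⟨_, hrest⟩, ⟨_, hl⟩), Fin.init (Fin.tail g)),
          Subtype.ext (Prod.ext (hff _ _ rfl rfl) ?_)⟩
        show mid _ _ _ _ = g
        simp only [mid]
        conv_rhs => rw [← Fin.cons_self_tail g]
        have ht : Fin.snoc (Fin.init (Fin.tail g)) (g (Fin.last (m + 2))) = Fin.tail g := by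
          rw [show g (Fin.last (m + 2)) = Fin.tail g (Fin.last (m + 1)) from rfl]
          exact Fin.snoc_init_self _
        rw [ht]
        congr 1
        conv_lhs => enter [1, 2, 1]; rw [← Fin.cons_self_tail g]
        simp only [poly_cons, eval_add, eval_mul, eval_C, eval_X, add_sub_cancel_right]
  rw [← Nat.card_eq_of_bijective χ hχ, Nat.card_sum]
  simp only [Nat.card_prod, card_ne_zero, Nat.card_fun, Nat.card_fin, Nat.card_eq_fintype_card (α := F)]

theorem card_ne_zero_total (n : ℕ) (hn : 2 ≤ n) :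
    Nat.card {p : (Fin 3 → F) × (Fin (n + 1) → F) // resultant (poly p.1) (poly p.2) 2 n ≠ 0} =
      (Fintype.card F - 1) * (Fintype.card F ^ (n + 3) - Fintype.card F ^ (n + 1)) := by
  classical
  obtain ⟨m, rfl⟩ := Nat.exists_eq_add_of_le hn
  rw [show 2 + m = m + 2 by omega]
  have h1 := Nat.card_congr (Equiv.sumCompl (fun x : {p : (Fin 3 → F) × (Fin (m + 2 + 1) → F) //
      resultant (poly p.1) (poly p.2) 2 (m + 2) ≠ 0} => x.1.1 2 = 0))
  rw [← h1, Nat.card_sum,
    Nat.card_congr (Equiv.subtypeSubtypeEquivSubtypeInter (fun p : (Fin 3 → F) × (Fin (m + 2 + 1) → F) =>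
      resultant (poly p.1) (poly p.2) 2 (m + 2) ≠ 0) (fun p => p.1 2 = 0)),
    Nat.card_congr (Equiv.subtypeSubtypeEquivSubtypeInter (fun p : (Fin 3 → F) × (Fin (m + 2 + 1) → F) =>
      resultant (poly p.1) (poly p.2) 2 (m + 2) ≠ 0) (fun p => ¬ p.1 2 = 0))]
  rw [card_low_ne_zero m, card_top_ne_zero m]
  obtain ⟨Q, hQ⟩ : ∃ Q, Fintype.card F = Q + 1 := ⟨_, (Nat.succ_pred_eq_of_pos Fintype.card_pos).symm⟩
  rw [hQ, Nat.add_sub_cancel]
  have hA : (Q + 1) ^ 4 - (Q + 1) ^ 3 = Q * (Q + 1) ^ 3 := by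
    rw [pow_succ _ 3, ← Nat.mul_sub_one]; simp [mul_comm]
  have hB : (Q + 1) ^ (m + 2 + 3) - (Q + 1) ^ (m + 2 + 1) = (Q + 1) ^ (m + 3) * (Q * Q + 2 * Q) := by
    rw [Nat.sub_eq_iff_eq_add (Nat.pow_le_pow_right (by omega) (by omega))]
    ring
  rw [hA, hB]
  ring

end Groth.Agent.H23ResHyp
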